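import Mathlib

/-! Constructible sets contain an open piece of their closure. -/

set_option autoImplicit false

open Topology TopologicalSpace

namespace Groth.Agent.H8Props.PiZeroTorsion

variable {X : Type*} [TopologicalSpace X]

theorem exists_open_of_generic {E : Set X} (hE : IsConstructible E) {η : X} :
    (η ∈ E → ∃ U, IsOpen U ∧ η ∈ U ∧ closure {η} ∩ U ⊆ E) ∧
      (η ∉ E → ∃ U, IsOpen U ∧ η ∈ U ∧ closure {η} ∩ U ⊆ Eᶜ) := by
  induction hE using IsConstructible.empty_union_induction with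
  | open_retrocompact U hU _ =>
    refine ⟨fun h => ⟨U, hU, h, Set.inter_subset_right⟩, fun h => ⟨Set.univ, isOpen_univ, trivial, ?_⟩⟩
    rintro x ⟨hx, -⟩ hxU
    obtain ⟨y, hy, hyη⟩ := mem_closure_iff.1 hx U hU hxU
    exact h (hyη ▸ hy)
  | union s _ t _ hs ht =>
    refine ⟨?_, fun h => ?_⟩
    · rintro (h | h)
      · obtain ⟨U, hU, hη, hsub⟩ := hs.1 h
        exact ⟨U, hU, hη, hsub.trans Set.subset_union_left⟩
      · obtain ⟨U, hU, hη, hsub⟩ := ht.1 h
        exact ⟨U, hU, hη, hsub.trans Set.subset_union_right⟩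
    · obtain ⟨U, hU, hη, hsub⟩ := hs.2 fun h' => h (Or.inl h')
      obtain ⟨V, hV, hη', hsub'⟩ := ht.2 fun h' => h (Or.inr h')
      refine ⟨U ∩ V, hU.inter hV, ⟨hη, hη'⟩, fun x hx hst => ?_⟩
      rcases hst with hs' | ht'
      · exact hsub ⟨hx.1, hx.2.1⟩ hs'
      · exact hsub' ⟨hx.1, hx.2.2⟩ ht'
  | compl s _ hs => exact ⟨hs.2, fun h => by rw [compl_compl]; exact hs.1 (not_not.1 h)⟩

/-- An irreducible closure meets some open set inside the constructible set. -/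
theorem exists_open_inter_subset [QuasiSober X] {E : Set X} (hE : IsConstructible E)
    (hirr : IsIrreducible (closure E)) (hne : E.Nonempty) :
    ∃ U, IsOpen U ∧ (closure E ∩ U).Nonempty ∧ closure E ∩ U ⊆ E := by
  obtain ⟨η, hη⟩ := QuasiSober.sober hirr isClosed_closure
  have hcl : closure {η} = closure E := hη
  by_cases h : η ∈ E
  · obtain ⟨U, hU, hηU, hsub⟩ := (exists_open_of_generic hE).1 h
    exact ⟨U, hU, ⟨η, hη.mem, hηU⟩, hcl ▸ hsub⟩
  · obtain ⟨U, hU, hηU, hsub⟩ := (exists_open_of_generic hE).2 h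
    obtain ⟨y, hyU, hyE⟩ := mem_closure_iff.1 hη.mem U hU hηU
    exact absurd hyE (hsub ⟨hcl.symm ▸ subset_closure hyE, hyU⟩)

theorem exists_closedPoint [JacobsonSpace X] {E C : Set X} (hE : IsConstructible E) (hC : IsClosed C)
    {z : X} (hz : z ∈ E) (hz' : z ∉ C) : ∃ w, w ∈ E ∩ Cᶜ ∧ IsClosed ({w} : Set X) := by
  obtain ⟨U, hU, hzU, hsub⟩ := (exists_open_of_generic hE).1 hz
  obtain ⟨w, ⟨hw1, hw2⟩, hwc⟩ := nonempty_inter_closedPoints (Z := closure {z} ∩ (U ∩ Cᶜ))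
    ⟨z, subset_closure rfl, hzU, hz'⟩ (isClosed_closure.isLocallyClosed.inter (hU.inter hC.isOpen_compl).isLocallyClosed)
  exact ⟨w, ⟨hsub ⟨hw1, hw2.1⟩, hw2.2⟩, hwc⟩

end Groth.Agent.H8Props.PiZeroTorsion
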